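import Groth.Agent.StMod.K748.GoodComp
import Groth.Agent.StMod.K907.GoodFp
import Groth.Agent.StMod.K906.FBC
import Groth.Agent.StMod.K906.Atlas
import Groth.Agent.AlgSt.K742.QC
import Groth.Agent.AlgSt.K739.Sect
import Groth.Agent.AlgSt.K739.Alg

/-!
# Fibre products of good moduli spaces over the moduli space

* `isGoodModuli_fp₂` : for good moduli spaces `π : 𝒳 ⟶ M` and `g : 𝒴' ⟶ M` the composite `𝒴' ×_M 𝒳 ⟶ 𝒴' ⟶ M` is a good moduli
  space (quasi-compact and quasi-separated if `π` and `g` are);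
* `isGoodModuli_fp` : the case `g = π`.
-/

set_option autoImplicit false
set_option linter.unusedVariables false
set_option linter.style.haveILetI false
set_option backward.isDefEq.respectTransparency false
set_option backward.isDefEq.respectTransparency.types false

universe v' w' v w u

open CategoryTheory CategoryTheory.Limits AlgebraicGeometry Opposite StMod AlgSt AlgSp

namespace K748.GoodFp

open K906 K907.GoodFp

section

variable {S : Scheme.{u}} [QuasiSeparatedSpace S] {𝒳 : AlgSt.Cat S}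

/-- Pushforward along the base change of a cohomologically affine morphism is exact over affine objects. -/
theorem surjective_relSectMap_fpFst (h𝒳 : IsAlgStack Scheme.fppfPrecoverage 𝒳) (M : Space S)
    (hM : IsQuasiSeparatedSp M.obj) (π : 𝒳 ⥤ᵇ ofSp M.obj) (hqc : IsQuasiCompactMor Scheme.fppfPrecoverage π)
    (hqs : IsQuasiSeparatedMor π) (h : IsCohAffine π) {𝒴' : AlgSt.Cat S}
    (h𝒴' : IsAlgStack Scheme.fppfPrecoverage 𝒴') (g : 𝒴' ⥤ᵇ ofSp M.obj) {F G : QCoh (FibCat.fp g π)} (u : F ⟶ G)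
    (hu : Mod.IsSurj u.hom) (z : 𝒴'.obj) (hz : IsAffine (sch 𝒴' z)) :
    Function.Surjective (Mod.relSectMap (FibCat.fpFst g π) u.hom z) := by
  obtain ⟨P⟩ := nonempty_pres_fp h𝒳 M π hqc hqs h𝒴' g hz
  exact K907.TermE.surjective_fp h𝒳.isStack.1 h𝒴'.isStack.1 M.property π g
    (fun E hE => (K907.GM.exact_and_pres h𝒳 hM hqc hqs h E hE).1) hz P u hu

/-- Flat base change for the pushforward along `fpFst g π`. -/
theorem relBC_fpFst (h𝒳 : IsAlgStack Scheme.fppfPrecoverage 𝒳) (M : Space S) (π : 𝒳 ⥤ᵇ ofSp M.obj)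
    (hqc : IsQuasiCompactMor Scheme.fppfPrecoverage π) (hqs : IsQuasiSeparatedMor π) {𝒴' : AlgSt.Cat S}
    (h𝒴' : IsAlgStack Scheme.fppfPrecoverage 𝒴') (g : 𝒴' ⥤ᵇ ofSp M.obj) (F : QCoh (FibCat.fp g π)) {z' z : 𝒴'.obj}
    (f : z' ⟶ z) (hz' : IsAffine (sch 𝒴' z')) (hz : IsAffine (sch 𝒴' z)) (hf : Flat (bmap 𝒴' f)) :
    K908.Push.RelBC (FibCat.fpFst g π) F.obj f := by
  obtain ⟨P⟩ := nonempty_pres_fp h𝒳 M π hqc hqs h𝒴' g hz
  exact FBC.relBC_of_pres (isAlgStack_fp h𝒳 M π h𝒴' g).isStack.1 h𝒴'.isStack.1 f hz hz' hf P F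

/-- The fibre product of two good moduli spaces over the same space. -/
theorem isGoodModuli_fp₂ (h𝒳 : IsAlgStack Scheme.fppfPrecoverage 𝒳) (M : Space S) (hM : IsQuasiSeparatedSp M.obj)
    (π : 𝒳 ⥤ᵇ ofSp M.obj) (hqc : IsQuasiCompactMor Scheme.fppfPrecoverage π) (hqs : IsQuasiSeparatedMor π)
    (h : IsGoodModuli π) {𝒴' : AlgSt.Cat S} (h𝒴' : IsAlgStack Scheme.fppfPrecoverage 𝒴') (g : 𝒴' ⥤ᵇ ofSp M.obj)
    (hqc' : IsQuasiCompactMor Scheme.fppfPrecoverage g) (hqs' : IsQuasiSeparatedMor g) (h' : IsGoodModuli g) :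
    IsQuasiCompactMor Scheme.fppfPrecoverage (BasedFunctor.comp (FibCat.fpFst g π) g) ∧
      IsQuasiSeparatedMor (BasedFunctor.comp (FibCat.fpFst g π) g) ∧
      IsGoodModuli (BasedFunctor.comp (FibCat.fpFst g π) g) := by
  have hAM := K740.SpDM.isAlgStack_ofSp M.property
  have hfp := isAlgStack_fp h𝒳 M π h𝒴' g
  obtain ⟨A₀⟩ := nonempty_smAtlas h𝒴'.isStack.1 h𝒴'.atlas
  refine ⟨?_, ?_, ?_, ?_⟩
  · exact K742.QC.isQuasiCompactMor_comp hfp h𝒴' hAM (FibCat.fpFst g π) g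
      (K742.QC.isQuasiCompactMor_fpFst h𝒳 hAM h𝒴' π g hqc) hqc'
  · exact K739.DiagComp.repByAlgSpWith_diag_comp hfp.isStack.1 h𝒴'.isStack.1 hAM.isStack.1 (FibCat.fpFst g π) g
      K739.Props.bc_qcqs K739.Props.comp_qcqs K739.Props.fppfDesc_qcqs.etDesc
      (K739.Sect.repByAlgSpWith_diag_fpFst g π h𝒳.isStack.1 hAM.isStack.1 h𝒴'.isStack.1 hfp.isStack.1 hqs) hqs'
  · exact K748.GoodComp.isCohAffine_comp h𝒴'.isStack.1 hfp.isStack.1 A₀ (FibCat.fpFst g π) g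
      (fun F z' z f hz' hz hf => relBC_fpFst h𝒳 M π hqc hqs h𝒴' g F f hz' hz hf)
      (fun u hu z hz => surjective_relSectMap_fpFst h𝒳 M hM π hqc hqs h.1 h𝒴' g u hu z hz) h'.1
  · intro E
    refine K748.GoodComp.bijective_unitSect_comp (fun z => ?_) g (h'.2 E)
    exact (Comap.unitSect_bijective_iff π g K907.FibTerm.isFibGrpd_ofSp h𝒴'.isStack.1 z).1
      (K907.UnitAll.bijective_unitSect h𝒳 M hM π hqc hqs h _)

end

/-- The self fibre product of a good moduli space. -/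
theorem isGoodModuli_fp {S : Scheme.{u}} [QuasiSeparatedSpace S] {𝒳 : AlgSt.Cat S}
    (h𝒳 : AlgSt.IsAlgStack Scheme.fppfPrecoverage 𝒳) (M : Space S) (hM : IsQuasiSeparatedSp M.obj)
    (π : 𝒳 ⥤ᵇ ofSp M.obj) (hqc : IsQuasiCompactMor Scheme.fppfPrecoverage π) (hqs : IsQuasiSeparatedMor π)
    (h : IsGoodModuli π) :
    IsQuasiCompactMor Scheme.fppfPrecoverage (BasedFunctor.comp (FibCat.fpFst π π) π) ∧
      IsQuasiSeparatedMor (BasedFunctor.comp (FibCat.fpFst π π) π) ∧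
      IsGoodModuli (BasedFunctor.comp (FibCat.fpFst π π) π) :=
  isGoodModuli_fp₂ h𝒳 M hM π hqc hqs h h𝒳 π hqc hqs h

end K748.GoodFp
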