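import Groth.Agent.StMod.K908.DenseSurj
import Groth.Agent.StMod.K908.Leray
import Groth.Agent.StMod.K784.LiftQ
import Groth.Agent.StMod.K784.BC2
import Groth.Agent.StMod.K906.PushFl
import Groth.Agent.StMod.K907.ResPt
import Groth.Agent.StMod.K907.L1
import Groth.Prelude.Def_StMod2

/-!
# Composites of cohomologically affine functors

`p : 𝒴 ⥤ᵇ 𝒳`, `π : 𝒳 ⥤ᵇ ofSp M`:

* `isCohAffine_comp` : if `π` is cohomologically affine and `p` has flat base change and exact pushforward over affine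
  objects, then `p ≫ π` is cohomologically affine;
* `unitIsIso_comp` : if the units of `p` and of `π` are bijective, then so is the unit of `p ≫ π`.
-/

set_option autoImplicit false
set_option linter.unusedVariables false
set_option linter.style.haveILetI false
set_option backward.isDefEq.respectTransparency false
set_option backward.isDefEq.respectTransparency.types false

universe t w'' v'' w' v' w v u

open CategoryTheory CategoryTheory.Limits AlgebraicGeometry Opposite StMod AlgSt AlgSp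

namespace K748.GoodComp

open K906 K907.Sec K907.Atl K907.Gen K908.Push K907.L1 K784.Geo K784.Tr K784.PM K908.AMod

variable {S : Scheme.{u}} {𝒳 : BasedCategory.{v, w} (Over S)} {𝒴 : BasedCategory.{v', w'} (Over S)} {M : Sp S}

/-- Sections of the pushforward along the composite from sections of a pushforward. -/
theorem exists_leray [hY : FibCat.IsFibGrpd 𝒴.p] {p : 𝒴 ⥤ᵇ 𝒳} {F : QCoh 𝒴} {A : QCoh 𝒳} (P : PushEv p F.obj A.obj)
    (π : 𝒳 ⥤ᵇ ofSp M) (η : (ofSp M).obj) (t : Mod.RelSect π A.obj η) :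
    ∃ s : Mod.RelSect (BasedFunctor.comp p π) F.obj η,
      ∀ (θ : 𝒴.obj) (h : IsAffine (sch 𝒴 θ)) (γ : π.obj (p.obj θ) ⟶ η),
        s.1 θ γ = (P.ev (p.obj θ) (K908.Leray.isAffine_obj p h) (t.1 (p.obj θ) γ)).1 θ (𝟙 _) := by
  obtain ⟨s, hs⟩ := K908.QHom.exists_relSect (C := ASieve.all 𝒴) K908.Fam.zloc_all (BasedFunctor.comp p π) F η
    (fun θ γ => (P.ev (p.obj θ.obj) (K908.Leray.isAffine_obj p θ.property) (t.1 (p.obj θ.obj) γ)).1 θ.obj (𝟙 _)) (by
      intro θ' θ φ γ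
      refine ((P.ev (p.obj θ.obj) (K908.Leray.isAffine_obj p θ.property) (t.1 (p.obj θ.obj) γ)).2 φ.hom (𝟙 _)).trans ?_
      have h1 : t.1 (p.obj θ'.obj) (π.map (p.map φ.hom) ≫ γ) =
          A.obj.mapTop (p.map φ.hom) (t.1 (p.obj θ.obj) γ) := (t.2 (p.map φ.hom) γ).symm
      change _ = (P.ev (p.obj θ'.obj) _ (t.1 (p.obj θ'.obj) (π.map (p.map φ.hom) ≫ γ))).1 θ'.obj (𝟙 _)
      rw [h1, P.comm (p.map φ.hom) (K908.Leray.isAffine_obj p θ'.property) (K908.Leray.isAffine_obj p θ.property),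
        relRes_val, Category.comp_id, Category.id_comp])
  exact ⟨s, fun θ h γ => hs ⟨θ, h⟩ γ⟩

/-- Sections of the pushforward along the composite define sections of a pushforward. -/
theorem exists_unleray (h𝒳 : FibCat.IsFibGrpd 𝒳.p) (A₀ : SmAtlas 𝒳) {p : 𝒴 ⥤ᵇ 𝒳} {F : QCoh 𝒴} {A : QCoh 𝒳}
    (P : PushEv p F.obj A.obj)
    (hP : ∀ (z : 𝒳.obj) (hz : IsAffine (sch 𝒳 z)) (j : A₀.J) (b : z ⟶ A₀.Z j), Flat (bmap 𝒳 b) →
      Function.Bijective (P.ev z hz))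
    (hinj : ∀ {z' z : 𝒳.obj} (f : z' ⟶ z), IsAffine (sch 𝒳 z') → IsAffine (sch 𝒳 z) → IsFCov f →
      Function.Injective (relRes p F.obj f))
    (π : 𝒳 ⥤ᵇ ofSp M) (E : EtOver M) (hE : IsAffine E.obj.left.left)
    (s : Mod.RelSect (BasedFunctor.comp p π) F.obj (etaOf E)) :
    ∃ t : Mod.RelSect π A.obj (etaOf E), ∀ (z : 𝒳.obj) (hz : IsAffine (sch 𝒳 z)) (β : π.obj z ⟶ etaOf E),
      P.ev z hz (t.1 z β) = K908.Leray.toRel π (etaOf E) s z β := by
  haveI hfib : FibCat.IsFibGrpd (fibCat π (etaOf E)).p := isFibGrpd_fibCat h𝒳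
  have hgen := genCl_fib h𝒳 π E hE (smCov_of_smAtlas A₀)
  let r : ∀ y : (fibCat π (etaOf E)).obj, Mod.RelSect p F.obj (FObj.pt y) := fun y =>
    K908.Leray.toRel π (etaOf E) s (FObj.pt y) (FObj.arr y)
  have hr : ∀ {y' y : (fibCat π (etaOf E)).obj} (φ : y' ⟶ y), relRes p F.obj (FObj.Hom.hom φ) (r y) = r y' := by
    intro y' y φ
    apply Mod.RelSect.ext
    intro θ α
    change s.1 θ (π.map (α ≫ FObj.Hom.hom φ) ≫ FObj.arr y) = s.1 θ (π.map α ≫ FObj.arr y')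
    rw [Functor.map_comp, Category.assoc, φ.comm]
  have key : ∀ y : (fibCat π (etaOf E)).obj, FlCl π E A₀.Z y →
      ∃ (hy : IsAffine (sch 𝒳 (FObj.pt y))) (x : Γ(A.obj.obj (FObj.pt y), ⊤)), P.ev (FObj.pt y) hy x = r y := by
    rintro y ⟨hy, j, d, hd⟩
    exact ⟨hy, (hP (FObj.pt y) hy j d hd).2 (r y)⟩
  choose hy x hx using key
  obtain ⟨t, ht⟩ := hgen.exists_globSect (K907.ResPt.resQ π (etaOf E) A) (fun y hy => x y hy) (by
    intro y' y φ hy' hy₁
    obtain ⟨h1, j, d, hd⟩ := id hy'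
    refine (hP (FObj.pt y') h1 j d hd).1 ?_
    change P.ev (FObj.pt y') h1 (A.obj.mapTop (FObj.Hom.hom φ) (x y hy₁)) = P.ev (FObj.pt y') h1 (x y' hy')
    rw [P.comm (FObj.Hom.hom φ) h1 (hy y hy₁), hx y hy₁, hx y' hy', hr])
  -- the value at an affine object
  have hval : ∀ (y : (fibCat π (etaOf E)).obj) (ha : IsAffine (sch 𝒳 (FObj.pt y))),
      P.ev (FObj.pt y) ha (t.1 y) = r y := by
    intro y ha
    obtain ⟨y', f, y₁, e, h1, h2, h3⟩ := hgen.cov y ha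
    have ha' : IsAffine (sch 𝒳 (FObj.pt y')) := h1
    have hf : IsFCov (FObj.Hom.hom f) := ⟨h2.flat, h2.surj⟩
    refine hinj (FObj.Hom.hom f) ha' ha hf ?_
    have ef : A.obj.mapTop (FObj.Hom.hom f) (t.1 y) = t.1 y' := t.2 f
    have ee : A.obj.mapTop (FObj.Hom.hom e) (t.1 y₁) = t.1 y' := t.2 e
    rw [← P.comm (FObj.Hom.hom f) ha' ha, ef, hr f, ← ee, P.comm (FObj.Hom.hom e) ha' (hy y₁ h3), ht y₁ h3,
      hx y₁ h3, hr e]
  exact ⟨K907.ResPt.ofGlob t, fun z hz β => hval (⟨z, β⟩ : FObj π (etaOf E)) hz⟩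

/-- Composites of cohomologically affine functors. -/
theorem isCohAffine_comp (h𝒳 : FibCat.IsFibGrpd 𝒳.p) (h𝒴 : FibCat.IsFibGrpd 𝒴.p) (A₀ : SmAtlas 𝒳) (p : 𝒴 ⥤ᵇ 𝒳)
    (π : 𝒳 ⥤ᵇ ofSp M)
    (hBC : ∀ (F : QCoh 𝒴) {z' z : 𝒳.obj} (g : z' ⟶ z), IsAffine (sch 𝒳 z') → IsAffine (sch 𝒳 z) →
      Flat (bmap 𝒳 g) → RelBC p F.obj g)
    (hex : ∀ {F G : QCoh 𝒴} (u : F ⟶ G), Mod.IsSurj u.hom → ∀ z : 𝒳.obj, IsAffine (sch 𝒳 z) →
      Function.Surjective (Mod.relSectMap p u.hom z))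
    (hπ : IsCohAffine π) : IsCohAffine (BasedFunctor.comp p π) := by
  intro F G u hu E hE s'
  haveI := h𝒳
  haveI := h𝒴
  obtain ⟨A, P, hP⟩ := PushFl.exists_pushEv p h𝒳 (FAtlas.ofSm A₀) F (fun g h1 h2 h3 => hBC F g h1 h2 h3)
  obtain ⟨B, Q, hQ⟩ := PushFl.exists_pushEv p h𝒳 (FAtlas.ofSm A₀) G (fun g h1 h2 h3 => hBC G g h1 h2 h3)
  have hH : FC (fun _ => True) (PushFl.relPM p G.obj) := FC.of_flatCart fun x z φ hφ =>
    PushFl.isBC_of_relBC (hBC G φ.hom x.property z.property ((fl_iff φ).1 hφ))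
  obtain ⟨v, hv⟩ := exists_lift_qcoh h𝒳 (FAtlas.ofSm A₀) hH (fun _ => trivial) (F := A) (G := B)
    (fun z _ => Q.ev z.obj z.property) (fun x z φ _ _ m => Q.comm φ.hom x.property z.property m)
    (fun z _ j b hb => hQ z.obj z.property j b.hom ((fl_iff b).1 hb))
    (fun z _ => (Mod.relSectMap p u.hom z.obj).comp (P.ev z.obj z.property))
    (fun x z φ _ _ m => by
      change Mod.relSectMap p u.hom x.obj (P.ev x.obj x.property (A.obj.mapTop φ.hom m)) = _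
      rw [P.comm φ.hom x.property z.property m]
      rfl)
  have hv' : ∀ (z : 𝒳.obj) (hz : IsAffine (sch 𝒳 z)) (m : Γ(A.obj.obj z, ⊤)),
      Q.ev z hz ((v.app z).app ⊤ m) = Mod.relSectMap p u.hom z (P.ev z hz m) := fun z hz m =>
    hv ⟨z, hz⟩ trivial m
  have hid : ∀ z : 𝒳.obj, Flat (bmap 𝒳 (𝟙 z)) := fun z => by rw [bmap_id]; infer_instance
  have hsurj : Mod.IsSurj v := by
    refine K908.Dense.isSurj_of_dense (FAtlas.ofSm A₀).dense v fun ζ => ?_
    obtain ⟨j, ⟨b⟩⟩ := ζ.property.2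
    have h1 : Function.Surjective (gsMap v ((FAtlas.ofSm A₀).Z j)) := by
      intro y
      have hj := ((FAtlas.ofSm A₀).Z j).property
      obtain ⟨s, hs⟩ := hex u hu ((FAtlas.ofSm A₀).Z j).obj hj (Q.ev ((FAtlas.ofSm A₀).Z j).obj hj y)
      obtain ⟨a, ha⟩ := (hP ((FAtlas.ofSm A₀).Z j).obj hj j (𝟙 _) (hid _)).2 s
      refine ⟨a, (hQ ((FAtlas.ofSm A₀).Z j).obj hj j (𝟙 _) (hid _)).1 ?_⟩
      rw [gsMap_apply, hv', ha]
      exact hs
    let z₁ : (Aff 𝒳).obj := ⟨ζ.obj, ζ.property.1⟩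
    let b' : z₁ ⟶ (FAtlas.ofSm A₀).Z j := ObjectProperty.homMk b
    exact (gs_cart A b').map_surjective (gs_cart B b') (gsMap v ((FAtlas.ofSm A₀).Z j)) (gsMap v z₁)
      (gsMap_nat v b') h1
  have hinj : ∀ {z' z : 𝒳.obj} (f : z' ⟶ z), IsAffine (sch 𝒳 z') → IsAffine (sch 𝒳 z) → IsFCov f →
      Function.Injective (relRes p G.obj f) := by
    intro z' z f h' h hf
    exact hH.injective (x := (⟨z', h'⟩ : (Aff 𝒳).obj)) (z := (⟨z, h⟩ : (Aff 𝒳).obj)) (φ := ObjectProperty.homMk f)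
      ((ff_iff _).2 hf) trivial
  obtain ⟨t', ht'⟩ := exists_unleray h𝒳 A₀ Q hQ hinj π E hE s'
  obtain ⟨tt, htt⟩ := hπ (F := A) (G := B) ⟨v⟩ hsurj E hE t'
  obtain ⟨s, hs⟩ := exists_leray P π (etaOf E) tt
  refine ⟨s, ?_⟩
  refine K908.QHom.relSect_ext (C := ASieve.all 𝒴) K908.Fam.zloc_all (BasedFunctor.comp p π) G (etaOf E)
    fun θ γ => ?_
  have hθ : IsAffine (sch 𝒴 θ.obj) := θ.property
  have hpθ : IsAffine (sch 𝒳 (p.obj θ.obj)) := K908.Leray.isAffine_obj p hθ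
  rw [Mod.relSectMap_val]
  refine (congrArg (fun k => (u.hom.app θ.obj).app ⊤ k) (hs θ.obj hθ γ)).trans ?_
  have e1 := hv' (p.obj θ.obj) hpθ (tt.1 (p.obj θ.obj) γ)
  have e2 : (v.app (p.obj θ.obj)).app ⊤ (tt.1 (p.obj θ.obj) γ) = t'.1 (p.obj θ.obj) γ :=
    congrArg (fun k : Mod.RelSect π B.obj (etaOf E) => k.1 (p.obj θ.obj) γ) htt
  rw [e2, ht' (p.obj θ.obj) hpθ γ] at e1
  have e3 := congrArg (fun k : Mod.RelSect p G.obj (p.obj θ.obj) => k.1 θ.obj (𝟙 _)) e1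
  refine e3.symm.trans ?_
  change s'.1 θ.obj (π.map (𝟙 _) ≫ γ) = _
  rw [CategoryTheory.Functor.map_id]
  exact congrArg (s'.1 θ.obj) (Category.id_comp γ)

section Unit

variable {𝒵 : BasedCategory.{v'', w''} (Over S)}

/-- The composite of functors with bijective units has bijective units. -/
theorem bijective_unitSect_comp {p : 𝒴 ⥤ᵇ 𝒳} (hp : ∀ z : 𝒳.obj, Function.Bijective (unitSect p z)) (π : 𝒳 ⥤ᵇ 𝒵)
    {η : 𝒵.obj} (hπ : Function.Bijective (unitSect π η)) :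
    Function.Bijective (unitSect (BasedFunctor.comp p π) η) := by
  have hb : ∀ (θ : 𝒴.obj) (z : 𝒳.obj) (α : p.obj θ ⟶ z) (β : π.obj z ⟶ η) (a : Γ(sch 𝒵 η, ⊤)),
      (baseOver (BasedFunctor.comp p π) θ (π.map α ≫ β)).left.appTop a =
        (baseOver p θ α).left.appTop ((baseOver π z β).left.appTop a) := by
    intro θ z α β a
    have h1 : baseOver p θ α ≫ baseOver π z β = baseOver (BasedFunctor.comp p π) θ (π.map α ≫ β) := by
      have h2 : baseOver p θ α = baseOver p θ (𝟙 _) ≫ 𝒳.p.map α := by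
        rw [← baseOver_comp, Category.id_comp]
      rw [h2, Category.assoc, map_comp_baseOver]
      exact K908.Leray.baseOver_leray π η θ (π.map α ≫ β)
    have h3 := congrArg (fun k => k.left.appTop a) h1
    simp only [Over.comp_left, Scheme.Hom.comp_appTop] at h3
    exact h3.symm
  constructor
  · intro a b hab
    apply hπ.1
    apply Mod.RelSect.ext
    intro z β
    rw [unitSect_val, unitSect_val]
    apply (hp z).1
    apply Mod.RelSect.ext
    intro θ α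
    rw [unitSect_val, unitSect_val]
    have h := congrArg (fun k : Mod.RelSect (BasedFunctor.comp p π) (O 𝒴) η => k.1 θ (π.map α ≫ β)) hab
    exact ((hb θ z α β a).symm.trans h).trans (hb θ z α β b)
  · intro r
    have key : ∀ (z : 𝒳.obj) (β : π.obj z ⟶ η), ∃ f : Γ(sch 𝒳 z, ⊤),
        unitSect p z f = K908.Leray.toRel (F := OQ 𝒴) π η r z β := fun z β => (hp z).2 _
    choose f hf using key
    let s : Mod.RelSect π (O 𝒳) η := ⟨fun z β => f z β, fun z' z φ β => by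
      apply (hp z').1
      rw [hf z' (π.map φ ≫ β)]
      apply Mod.RelSect.ext
      intro θ α
      have h1 := congrArg (fun k : Mod.RelSect p (O 𝒴) z => k.1 θ (α ≫ φ)) (hf z β)
      have h2 : (unitSect p z (f z β)).1 θ (α ≫ φ) = (unitSect p z' ((bmap 𝒳 φ).appTop (f z β))).1 θ α :=
        baseOver_appTop p φ θ α (f z β)
      refine h2.symm.trans (h1.trans ?_)
      change r.1 θ (π.map (α ≫ φ) ≫ β) = r.1 θ (π.map α ≫ π.map φ ≫ β)
      rw [Functor.map_comp, Category.assoc]⟩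
    obtain ⟨a, ha⟩ := hπ.2 s
    refine ⟨a, ?_⟩
    apply Mod.RelSect.ext
    intro θ γ
    have h1 := congrArg (fun k : Mod.RelSect π (O 𝒳) η => k.1 (p.obj θ) γ) ha
    have h2 := congrArg (fun k : Mod.RelSect p (O 𝒴) (p.obj θ) => k.1 θ (𝟙 _)) (hf (p.obj θ) γ)
    have h3 := hb θ (p.obj θ) (𝟙 _) γ a
    have h4 : π.map (𝟙 (p.obj θ)) ≫ γ = γ := by rw [CategoryTheory.Functor.map_id, Category.id_comp]
    rw [h4] at h3
    refine h3.trans ?_
    have h5 : (baseOver π (p.obj θ) γ).left.appTop a = f (p.obj θ) γ := h1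
    rw [h5]
    refine h2.trans ?_
    change r.1 θ (π.map (𝟙 (p.obj θ)) ≫ γ) = r.1 θ γ
    rw [h4]

end Unit

end K748.GoodComp
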